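import Cfsg.Agent.MK.C3L.OTrip

/-!
# The types of the elements of `3.Ω₇(3)` (helper94; generated by notes/MK/o7)
-/

set_option autoImplicit false
set_option maxRecDepth 100000

namespace Cfsg.Agent.MK.C3L.O

open Cfsg Cfsg.Agent.TAB.Eng Cfsg.Agent.H64.O73Perm

/-- the data -/
def dat : Dat where
  n := 81
  N := 13756055040
  ordL := [1, 2, 2, 2, 3, 3, 3, 3, 3, 3, 3, 4, 4, 4, 4, 5, 6, 6, 6, 6, 6, 6, 6, 6, 6, 6, 6, 6, 6, 6, 6, 6, 6, 6, 6,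
    6, 6, 6, 7, 8, 8, 9, 9, 9, 9, 10, 10, 12, 12, 12, 12, 12, 12, 12, 12, 12, 12, 12, 12, 12, 12, 12, 13, 14,
    15, 15, 15, 18, 18, 18, 18, 18, 20, 21, 24, 24, 30, 30, 39, 42, 60]
  cntL := [1, 351, 22113, 331695, 2, 21840, 26208, 52416, 98280, 6289920, 9434880, 1592136, 3980340, 11941020,
    23882040, 38211264, 702, 44226, 196560, 393120, 663390, 1179360, 1769040, 2358720, 3538080, 3538080,
    5307120, 7960680, 10614240, 10614240, 10614240, 15921360, 21228480, 21228480, 31842720, 42456960,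
    254741760, 382112640, 327525120, 286584480, 286584480, 14152320, 28304640, 84913920, 1018967040,
    114633792, 229267584, 3184272, 7960680, 23882040, 47764080, 63685440, 63685440, 95528160, 95528160,
    95528160, 127370880, 127370880, 191056320, 191056320, 382112640, 764225280, 705438720, 327525120,
    76422528, 305690112, 611380224, 84913920, 127370880, 169827840, 254741760, 254741760, 229267584,
    655050240, 573168960, 573168960, 229267584, 458535168, 1410877440, 655050240, 458535168]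
  pwL := [[(1, 0)], [(1, 1), (2, 0)], [(1, 2), (2, 0)], [(1, 3), (2, 0)], [(1, 4), (3, 0)], [(1, 5), (3, 0)], [(1,
    6), (3, 0)], [(1, 7), (3, 0)], [(1, 8), (3, 0)], [(1, 9), (3, 0)], [(1, 10), (3, 0)], [(1, 11), (2, 2),
    (4, 0)], [(1, 12), (2, 3), (4, 0)], [(1, 13), (2, 3), (4, 0)], [(1, 14), (2, 2), (4, 0)], [(1, 15), (5,
    0)], [(1, 16), (2, 4), (3, 1), (6, 0)], [(1, 17), (2, 4), (3, 2), (6, 0)], [(1, 18), (2, 5), (3, 1), (6,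
    0)], [(1, 19), (2, 5), (3, 1), (6, 0)], [(1, 20), (2, 4), (3, 3), (6, 0)], [(1, 21), (2, 6), (3, 1), (6,
    0)], [(1, 22), (2, 5), (3, 2), (6, 0)], [(1, 23), (2, 7), (3, 1), (6, 0)], [(1, 24), (2, 5), (3, 2), (6,
    0)], [(1, 25), (2, 8), (3, 1), (6, 0)], [(1, 26), (2, 8), (3, 2), (6, 0)], [(1, 27), (2, 8), (3, 3), (6,
    0)], [(1, 28), (2, 6), (3, 2), (6, 0)], [(1, 29), (2, 8), (3, 2), (6, 0)], [(1, 30), (2, 6), (3, 3), (6,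
    0)], [(1, 31), (2, 5), (3, 3), (6, 0)], [(1, 32), (2, 7), (3, 2), (6, 0)], [(1, 33), (2, 7), (3, 3), (6,
    0)], [(1, 34), (2, 8), (3, 3), (6, 0)], [(1, 35), (2, 9), (3, 1), (6, 0)], [(1, 36), (2, 10), (3, 3), (6,
    0)], [(1, 37), (2, 9), (3, 3), (6, 0)], [(1, 38), (7, 0)], [(1, 39), (2, 13), (4, 3), (8, 0)], [(1, 40),
    (2, 12), (4, 3), (8, 0)], [(1, 41), (3, 5), (9, 0)], [(1, 42), (3, 5), (9, 0)], [(1, 43), (3, 5), (9,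
    0)], [(1, 44), (3, 9), (9, 0)], [(1, 45), (2, 15), (5, 2), (10, 0)], [(1, 46), (2, 15), (5, 1), (10, 0)],
    [(1, 47), (2, 17), (3, 11), (4, 4), (6, 2), (12, 0)], [(1, 48), (2, 20), (3, 12), (4, 4), (6, 3), (12,
    0)], [(1, 49), (2, 20), (3, 13), (4, 4), (6, 3), (12, 0)], [(1, 50), (2, 17), (3, 14), (4, 4), (6, 2),
    (12, 0)], [(1, 51), (2, 26), (3, 11), (4, 8), (6, 2), (12, 0)], [(1, 52), (2, 28), (3, 11), (4, 6), (6,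
    2), (12, 0)], [(1, 53), (2, 31), (3, 13), (4, 5), (6, 3), (12, 0)], [(1, 54), (2, 27), (3, 12), (4, 8),
    (6, 3), (12, 0)], [(1, 55), (2, 31), (3, 12), (4, 5), (6, 3), (12, 0)], [(1, 56), (2, 29), (3, 11), (4,
    8), (6, 2), (12, 0)], [(1, 57), (2, 32), (3, 11), (4, 7), (6, 2), (12, 0)], [(1, 58), (2, 31), (3, 13),
    (4, 5), (6, 3), (12, 0)], [(1, 59), (2, 28), (3, 14), (4, 6), (6, 2), (12, 0)], [(1, 60), (2, 32), (3,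
    14), (4, 7), (6, 2), (12, 0)], [(1, 61), (2, 37), (3, 12), (4, 9), (6, 3), (12, 0)], [(1, 62), (13, 0)],
    [(1, 63), (2, 38), (7, 1), (14, 0)], [(1, 64), (3, 15), (5, 4), (15, 0)], [(1, 65), (3, 15), (5, 6), (15,
    0)], [(1, 66), (3, 15), (5, 7), (15, 0)], [(1, 67), (2, 41), (3, 19), (6, 5), (9, 1), (18, 0)], [(1, 68),
    (2, 41), (3, 22), (6, 5), (9, 2), (18, 0)], [(1, 69), (2, 42), (3, 19), (6, 5), (9, 1), (18, 0)], [(1,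
    70), (2, 42), (3, 22), (6, 5), (9, 2), (18, 0)], [(1, 71), (2, 43), (3, 18), (6, 5), (9, 1), (18, 0)],
    [(1, 72), (2, 45), (4, 15), (5, 11), (10, 2), (20, 0)], [(1, 73), (3, 38), (7, 4), (21, 0)], [(1, 74),
    (2, 49), (3, 39), (4, 20), (6, 13), (8, 4), (12, 3), (24, 0)], [(1, 75), (2, 48), (3, 40), (4, 20), (6,
    12), (8, 4), (12, 3), (24, 0)], [(1, 76), (2, 64), (3, 45), (5, 17), (6, 15), (10, 4), (15, 2), (30, 0)],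
    [(1, 77), (2, 64), (3, 46), (5, 16), (6, 15), (10, 4), (15, 1), (30, 0)], [(1, 78), (3, 62), (13, 4),
    (39, 0)], [(1, 79), (2, 73), (3, 63), (6, 38), (7, 16), (14, 4), (21, 1), (42, 0)], [(1, 80), (2, 76),
    (3, 72), (4, 64), (5, 47), (6, 45), (10, 17), (12, 15), (15, 11), (20, 4), (30, 2), (60, 0)]]

/-- the values of the key -/
def valL : List (ℕ × ℕ) :=
  [(1134, 1134), (378, 378), (114, 114), (54, 54), (0, 1134), (54, 162), (135, 135), (0, 135), (36, 108), (0,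
  0), (9, 27), (48, 48), (18, 18), (6, 6), (12, 12), (9, 9), (0, 378), (0, 114), (54, 54), (0, 54), (0, 54),
  (27, 27), (6, 6), (0, 27), (0, 6), (18, 54), (24, 24), (12, 36), (15, 15), (0, 24), (27, 27), (6, 18), (0,
  15), (0, 27), (6, 18), (0, 0), (3, 9), (0, 0), (0, 0), (0, 0), (6, 6), (18, 18), (0, 18), (3, 9), (0, 0),
  (9, 9), (3, 3), (0, 48), (0, 18), (0, 6), (0, 12), (12, 12), (3, 3), (6, 6), (0, 0), (6, 18), (0, 12), (0,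
  3), (0, 6), (3, 3), (0, 3), (0, 0), (3, 3), (0, 0), (0, 9), (0, 0), (0, 0), (0, 0), (6, 6), (0, 0), (0, 6),
  (3, 9), (3, 3), (0, 0), (0, 0), (0, 6), (0, 9), (0, 3), (0, 3), (0, 0), (0, 3)]

/-- the values of the key -/
def val (t : ℕ) : ℕ × ℕ := valL.getD t (0, 0)

/-- the families -/
def fam : List (List Rp × ℕ) :=
  [([⟨[], [0, 4, 4], [(0, 3)]⟩], 1), ([⟨[0, 1, 5, 7, 4], [35, 35, 35], [(0, 2), (1, 3), (0, 2)]⟩], 14152320),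
  ([⟨[7], [1, 16, 16], [(0, 2), (1, 3), (0, 2)]⟩], 351), ([⟨[3, 2, 4, 5, 6, 1, 2, 6], [39, 74, 74], [(0, 2),
  (1, 3), (1, 2), (1, 2), (1, 2), (1, 2), (0, 2)]⟩], 286584480), ([⟨[2, 5, 1, 6, 2, 1, 3], [13, 49, 49], [(0,
  2), (1, 3), (1, 2), (1, 2), (0, 2)]⟩], 11941020), ([⟨[6, 0, 3], [3, 20, 20], [(0, 2), (1, 3), (0, 2)]⟩],
  331695), ([⟨[2, 6, 0, 5, 1, 4, 2, 3, 7, 6], [80, 80, 72], [(0, 2), (1, 3), (1, 2), (3, 5), (2, 2), (1, 2),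
  (1, 2), (3, 3), (2, 2), (1, 2), (0, 2)]⟩], 229267584), ([⟨[2, 5, 6, 3, 7, 0], [45, 76, 76], [(0, 2), (1,
  3), (2, 5), (1, 2), (1, 2), (2, 3), (0, 2)]⟩], 114633792), ([⟨[1, 7, 6, 2], [15, 64, 64], [(0, 3), (1, 5),
  (0, 3)]⟩], 38211264), ([⟨[0, 1, 2], [11, 47, 47], [(0, 2), (1, 3), (1, 2), (1, 2), (0, 2)]⟩], 1592136),
  ([⟨[4, 0], [2, 17, 17], [(0, 2), (1, 3), (0, 2)]⟩], 22113), ([⟨[6, 3, 2, 3, 1, 2], [12, 48, 48], [(0, 2),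
  (1, 3), (1, 2), (1, 2), (0, 2)]⟩], 3980340), ([⟨[7, 2, 5, 1, 6, 4], [65, 66, 66], [(0, 3), (1, 5), (0,
  3)]⟩], 305690112), ([⟨[1, 0], [6, 7, 7], [(0, 3)]⟩], 26208), ([⟨[4, 2, 5, 3, 7], [46, 77, 77], [(0, 2), (1,
  3), (2, 5), (1, 2), (1, 2), (2, 3), (0, 2)]⟩], 229267584), ([⟨[2, 3, 5, 4, 0, 1], [38, 73, 73], [(0, 3),
  (1, 7), (0, 3)]⟩], 327525120), ([⟨[7, 1, 2, 3, 6], [40, 75, 75], [(0, 2), (1, 3), (1, 2), (1, 2), (1, 2),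
  (1, 2), (0, 2)]⟩], 286584480), ([⟨[7, 2, 5, 3, 0, 6, 1], [53, 58, 58], [(0, 2), (1, 3), (1, 2), (1, 2), (0,
  2)]⟩], 95528160), ([⟨[0, 6, 7, 1, 3, 2, 0, 6, 7, 1, 3, 2], [31, 31, 31], [(0, 2), (1, 3), (0, 2)]⟩],
  5307120), ([⟨[0, 6, 7, 1, 3, 2, 0, 6, 7, 1, 3, 2, 0, 6, 7, 1, 3, 2, 0, 6, 7, 1, 3, 2], [5, 5, 5], [(0,
  3)]⟩], 7280), ([⟨[3, 6, 0, 5, 4, 7], [59, 60, 60], [(0, 2), (1, 3), (1, 2), (1, 2), (0, 2)]⟩], 191056320),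
  ([⟨[5, 3, 7, 2], [28, 32, 32], [(0, 2), (1, 3), (0, 2)]⟩], 10614240), ([⟨[4, 7, 3, 5], [14, 50, 50], [(0,
  2), (1, 3), (1, 2), (1, 2), (0, 2)]⟩], 23882040), ([⟨[6, 4, 0, 1, 2, 3, 6, 7, 1, 2, 6, 4, 0, 1, 2, 3, 6, 7,
  1, 2], [41, 42, 42], [(0, 3), (0, 3)]⟩], 14152320), ([⟨[1, 6, 7, 0, 2, 3, 4, 1, 6, 7, 0, 2, 3, 4, 1, 6, 7,
  0, 2, 3, 4], [18, 19, 19], [(0, 2), (1, 3), (0, 2)]⟩], 196560), ([⟨[5, 4, 1, 7, 0, 3, 2], [63, 79, 79],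
  [(0, 2), (1, 3), (0, 2), (3, 7), (0, 2), (1, 3), (0, 2)]⟩], 327525120), ([⟨[6, 4, 0, 1, 2, 3, 6, 7, 1, 2],
  [68, 70, 70], [(0, 2), (1, 3), (0, 2), (1, 3), (0, 2)]⟩], 127370880), ([⟨[2, 7, 0, 1, 2, 6, 3, 0, 2, 7, 3,
  1, 2, 5, 6], [22, 24, 24], [(0, 2), (1, 3), (0, 2)]⟩], 1769040), ([⟨[1, 6, 7, 0, 2, 3, 4], [71, 71, 71],
  [(0, 2), (1, 3), (0, 2), (1, 3), (0, 2)]⟩], 84913920), ([⟨[6, 1, 0, 2, 6, 3, 2, 7], [43, 43, 43], [(0, 3),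
  (0, 3)]⟩], 28304640), ([⟨[3, 4, 6], [21, 23, 23], [(0, 2), (1, 3), (0, 2)]⟩], 1179360), ([⟨[7, 6, 5, 4, 1,
  0, 3], [51, 56, 56], [(0, 2), (1, 3), (1, 2), (1, 2), (0, 2)]⟩], 63685440), ([⟨[6, 3, 7, 0, 5, 1], [26, 29,
  29], [(0, 2), (1, 3), (0, 2)]⟩], 5307120), ([⟨[6, 1, 7, 0], [8, 8, 8], [(0, 3)]⟩], 32760), ([⟨[1, 2, 5, 6,
  4], [52, 57, 57], [(0, 2), (1, 3), (1, 2), (1, 2), (0, 2)]⟩], 63685440), ([⟨[1, 4, 2, 0, 7, 5, 6], [36, 36,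
  36], [(0, 2), (1, 3), (0, 2)]⟩], 84913920), ([⟨[6, 0, 1, 5, 4, 7], [10, 10, 10], [(0, 3)]⟩], 3144960),
  ([⟨[2, 3, 1, 0, 4, 1, 5, 6, 2, 7, 1, 3, 6], [54, 54, 54], [(0, 2), (1, 3), (1, 2), (1, 2), (0, 2)]⟩],
  31842720), ([⟨[0, 6, 1, 7, 2], [27, 27, 27], [(0, 2), (1, 3), (0, 2)]⟩], 2653560), ([⟨[0, 6, 7, 1, 3, 2],
  [55, 55, 55], [(0, 2), (1, 3), (1, 2), (1, 2), (0, 2)]⟩], 31842720), ([⟨[1, 6, 2, 3], [30, 33, 33], [(0,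
  2), (1, 3), (0, 2)]⟩], 10614240), ([⟨[0, 7, 1, 6, 4], [25, 25, 25], [(0, 2), (1, 3), (0, 2)]⟩], 1179360),
  ([⟨[5, 0, 6, 2, 1, 7], [34, 34, 34], [(0, 2), (1, 3), (0, 2)]⟩], 10614240), ([⟨[2, 1, 3, 5, 4, 7, 6, 2, 1,
  3, 5, 4, 7, 6, 2, 1, 3, 5, 4, 7, 6], [9, 9, 9], [(0, 3)]⟩, ⟨[2, 6, 3, 5, 4, 0, 1, 2, 6, 3, 5, 4, 0, 1, 2,
  6, 3, 5, 4, 0, 1], [9, 9, 9], [(0, 3)]⟩, ⟨[0, 3, 4, 1], [9, 9, 9], [(0, 3)]⟩], 2096640), ([⟨[6, 7, 2, 4, 3,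
  1, 6, 7, 2, 4, 3, 1], [37, 37, 37], [(0, 2), (1, 3), (0, 2)]⟩, ⟨[1, 0, 2, 4, 3, 6, 1, 0, 2, 4, 3, 6], [37,
  37, 37], [(0, 2), (1, 3), (0, 2)]⟩, ⟨[2, 3, 7, 6, 4], [37, 37, 37], [(0, 2), (1, 3), (0, 2)]⟩, ⟨[2, 3, 0,
  1, 4], [37, 37, 37], [(0, 2), (1, 3), (0, 2)]⟩], 127370880), ([⟨[5, 1, 2, 6, 4, 0, 3], [44, 44, 44], [(0,
  3), (0, 3)]⟩, ⟨[5, 6, 2, 1, 4, 7, 3], [44, 44, 44], [(0, 3), (0, 3)]⟩], 339655680), ([⟨[6, 7, 2, 4, 3, 1],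
  [61, 61, 61], [(0, 2), (1, 3), (1, 2), (1, 2), (0, 2)]⟩, ⟨[1, 0, 2, 4, 3, 6], [61, 61, 61], [(0, 2), (1,
  3), (1, 2), (1, 2), (0, 2)]⟩], 254741760), ([⟨[2, 3, 4, 2, 3, 6, 0, 3, 1, 3, 2, 5, 6, 1, 7], [62, 78, 78],
  [(0, 3), (1, 13), (0, 3)]⟩, ⟨[4, 2, 5, 6, 3, 0, 1, 7], [62, 78, 78], [(0, 3), (1, 13), (0, 3)]⟩],
  705438720), ([⟨[7, 6, 2, 4, 3, 1, 2, 4, 6, 5, 2, 0, 1, 0, 2, 5, 3], [69, 67, 69], [(0, 2), (1, 3), (0, 2),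
  (1, 3), (0, 2)]⟩, ⟨[0, 1, 2, 4, 3, 6, 2, 4, 1, 5, 2, 7, 6, 7, 2, 5, 3], [69, 69, 67], [(0, 2), (1, 3), (0,
  2), (1, 3), (0, 2)]⟩], 84913920)]

theorem okO : OkO dat val := by
  unfold OkO
  decide +kernel

theorem big_fam : ∀ f ∈ fam, Big (f.1.map Rp.w) f.2 := by
  simp only [fam, List.forall_mem_cons]
  exact ⟨Big.nil, Big.one c2, Big.one c4, Big.one c5, Big.one c6, Big.one c7, Big.one c8, Big.one c9, Big.one
    c10, Big.one c11, Big.one c12, Big.one c15, Big.one c17, Big.one c18, Big.one c19, Big.one c20, Big.one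
    c21, Big.one c22, Big.one c23, Big.one c24, Big.one c25, Big.one c26, Big.one c27, Big.one c30, Big.one
    c31, Big.one c35, Big.one c38, Big.one c39, Big.one c40, Big.one c41, Big.one c43, Big.one c44, Big.one
    c45, Big.one c46, Big.one c47, Big.one c48, Big.one c49, Big.one c51, Big.one c52, Big.one c54, Big.one
    c55, Big.one c56, Big.one c57, Big.app [2, 1] (Big.pair (c := 17496) (d := 3) (lv := [⟨1, 3, []⟩, ⟨9, 2,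
    [[2, 1]]⟩, ⟨243, 2, []⟩]) (by decide +kernel) (by decide)) (Big.one c3) (by decide +kernel), Big.app [2,
    0, 1] (Big.pair (c := 216) (d := 5) (lv := [⟨1, 5, [[2, 2, 0, 1, 1]]⟩, ⟨3, 2, []⟩]) (by decide +kernel)
    (by decide)) (Big.pair (c := 108) (d := 6) (lv := [⟨1, 6, []⟩, ⟨27, 1, []⟩]) (by decide +kernel) (by
    decide)) (by decide +kernel), Big.pair (c := 27) (d := 7) (lv := [⟨1, 7, []⟩]) (by decide +kernel) (by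
    decide), Big.pair (c := 36) (d := 7) (lv := [⟨1, 7, []⟩]) (by decide +kernel) (by decide), Big.app [0, 2,
    1, 1] (Big.one c1) (Big.one c28) (by decide +kernel), Big.pair (c := 108) (d := 6) (lv := [⟨3, 6, []⟩,
    ⟨1, 1, []⟩]) (by decide +kernel) (by decide), fun _ h => by cases h⟩

theorem okT0 : allL (fun f => allL (okT dat val) f.1) ((fam.drop 0).take 10) = true := by decide +kernel

theorem okT1 : allL (fun f => allL (okT dat val) f.1) ((fam.drop 10).take 10) = true := by decide +kernel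

theorem okT2 : allL (fun f => allL (okT dat val) f.1) ((fam.drop 20).take 10) = true := by decide +kernel

theorem okT3 : allL (fun f => allL (okT dat val) f.1) ((fam.drop 30).take 10) = true := by decide +kernel

theorem okT4 : allL (fun f => allL (okT dat val) f.1) ((fam.drop 40).take 10) = true := by decide +kernel

theorem okT_fam : ∀ f ∈ fam, ∀ r ∈ f.1, okT dat val r = true := fun f hf => allL_spec (by
  rw [show fam = (fam.drop 0).take 10 ++ (fam.drop 10).take 10 ++ (fam.drop 20).take 10 ++ (fam.drop 30).take 10 ++ (fam.drop 40).take 10 from rfl] at hf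
  simp only [List.mem_append] at hf
  rcases hf with (((h | h) | h) | h) | h
  exacts [allL_spec okT0 f h, allL_spec okT1 f h, allL_spec okT2 f h, allL_spec okT3 f h, allL_spec okT4 f h])

theorem exists_tdT : ∃ T : TD Trip dat, T.Mass ∧ ∀ g, ∀ i < dat.n, T.ty g = i ↔ Ty key dat val i g := by
  refine exists_td (by decide +kernel) (by decide +kernel) (by decide +kernel) card_trip fun t ht => ?_
  obtain ⟨f, h1, k, -, h2, h3⟩ := (by decide +kernel : ∀ t < 81, ∃ f ∈ fam, ∃ k < 4,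
    (∀ r ∈ f.1, k ≤ ((Finset.range 3).filter fun j => r.t.getD j 0 = t).card) ∧ dat.cnt t ≤ k * f.2) t ht
  exact box_of okO (okT_fam f h1) (big_fam f h1) h2 h3

end Cfsg.Agent.MK.C3L.O
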