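import Cfsg.Agent.MK.C3L.OCen

/-!
# The centralizer orders of the 57 nontrivial classes of `Ω₇(3)` (helper94; generated by notes/MK/o7)
-/

set_option autoImplicit false
set_option maxRecDepth 100000

namespace Cfsg.Agent.MK.C3L.O

open Subgroup Cfsg.Agent.Fischer.Derived Cfsg.Agent.Fischer.Y322

/-- order 13 -/
theorem c1 : Nat.card (centralizer {ev x8 [2, 3, 4, 2, 3, 6, 0, 3, 1, 3, 2, 5, 6, 1, 7]}) ≤ 13 :=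
  cent_four (d := 7) (lv := [⟨1, 7, []⟩])
    (l := [28]) (by decide +kernel)

/-- order 6 -/
theorem c2 : Nat.card (centralizer {ev x8 [0, 1, 5, 7, 4]}) ≤ 324 :=
  cent_four (d := 4) (lv := [⟨4, 4, []⟩, ⟨9, 3, []⟩])
    (l := [38, 1566, 2044]) (by decide +kernel)

/-- order 3 -/
theorem c3 : Nat.card (centralizer {ev x8 [0, 3, 4, 1]}) ≤ 2916 :=
  cent_four (d := 3) (lv := [⟨1, 3, []⟩, ⟨9, 3, []⟩, ⟨3, 1, []⟩])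
    (l := [916, 2039, 815]) (by decide +kernel)

/-- order 2 -/
theorem c4 : Nat.card (centralizer {ev x8 [7]}) ≤ 13063680 :=
  cent_four (d := 2) (lv := [⟨1, 2, []⟩, ⟨27, 1, []⟩, ⟨3, 1, [[2, 1]]⟩, ⟨81, 1, []⟩, ⟨9, 1, [[2, 1]]⟩, ⟨243, 1, []⟩])
    (l := [1125, 1003, 281, 440]) (by decide +kernel)

/-- order 8 -/
theorem c5 : Nat.card (centralizer {ev x8 [3, 2, 4, 5, 6, 1, 2, 6]}) ≤ 16 :=
  cent_four (d := 7) (lv := [⟨1, 7, []⟩])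
    (l := [730, 1999]) (by decide +kernel)

/-- order 4 -/
theorem c6 : Nat.card (centralizer {ev x8 [2, 5, 1, 6, 2, 1, 3]}) ≤ 384 :=
  cent_four (d := 4) (lv := [⟨5, 4, [[2, 0, 1]]⟩, ⟨1, 3, []⟩])
    (l := [1799, 716]) (by decide +kernel)

/-- order 2 -/
theorem c7 : Nat.card (centralizer {ev x8 [6, 0, 3]}) ≤ 13824 :=
  cent_four (d := 2) (lv := [⟨4, 2, [[2, 1]]⟩, ⟨31, 2, [[1, 1]]⟩, ⟨28, 2, [[2, 1]]⟩, ⟨9, 1, []⟩])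
    (l := [84, 757, 1170]) (by decide +kernel)

/-- order 20 -/
theorem c8 : Nat.card (centralizer {ev x8 [2, 6, 0, 5, 1, 4, 2, 3, 7, 6]}) ≤ 20 :=
  cent_four (d := 7) (lv := [⟨1, 7, []⟩])
    (l := [1057, 544]) (by decide +kernel)

/-- order 10 -/
theorem c9 : Nat.card (centralizer {ev x8 [2, 5, 6, 3, 7, 0]}) ≤ 40 :=
  cent_four (d := 6) (lv := [⟨4, 6, []⟩, ⟨27, 1, []⟩])
    (l := [731]) (by decide +kernel)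

/-- order 5 -/
theorem c10 : Nat.card (centralizer {ev x8 [1, 7, 6, 2]}) ≤ 120 :=
  cent_four (d := 5) (lv := [⟨1, 5, []⟩, ⟨3, 1, [[1, 1, 1, 1, 1]]⟩, ⟨81, 1, []⟩])
    (l := [763, 844]) (by decide +kernel)

/-- order 4 -/
theorem c11 : Nat.card (centralizer {ev x8 [0, 1, 2]}) ≤ 2880 :=
  cent_four (d := 4) (lv := [⟨10, 4, []⟩, ⟨27, 1, []⟩, ⟨3, 1, [[2, 1]]⟩, ⟨81, 1, []⟩])
    (l := [83, 86]) (by decide +kernel)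

/-- order 2 -/
theorem c12 : Nat.card (centralizer {ev x8 [4, 0]}) ≤ 207360 :=
  cent_four (d := 2) (lv := [⟨1, 2, []⟩, ⟨29, 2, [[1, 1]]⟩, ⟨3, 1, []⟩, ⟨9, 1, [[1, 1]]⟩, ⟨243, 1, []⟩])
    (l := [1096, 328, 26]) (by decide +kernel)

/-- order 12 -/
theorem c13 : Nat.card (centralizer {ev x8 [6, 7, 2, 4, 3, 1]}) ≤ 36 :=
  cent_two (d := 7) (lv := [⟨1, 7, []⟩]) (by decide +kernel)

/-- order 6 -/
theorem c14 : Nat.card (centralizer {ev x8 [6, 7, 2, 4, 3, 1, 6, 7, 2, 4, 3, 1]}) ≤ 216 :=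
  cent_two (d := 5) (lv := [⟨1, 5, [[2, 2, 0, 1, 1]]⟩, ⟨3, 2, []⟩]) (by decide +kernel)

/-- order 4 -/
theorem c15 : Nat.card (centralizer {ev x8 [6, 3, 2, 3, 1, 2]}) ≤ 1152 :=
  cent_four (d := 3) (lv := [⟨5, 3, [[2, 1]]⟩, ⟨11, 3, [[1, 0, 1]]⟩, ⟨1, 1, []⟩])
    (l := [74, 495]) (by decide +kernel)

/-- order 3 -/
theorem c16 : Nat.card (centralizer {ev x8 [2, 1, 3, 5, 4, 7, 6, 2, 1, 3, 5, 4, 7, 6, 2, 1, 3, 5, 4, 7, 6]}) ≤ 17496 :=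
  cent_two (d := 3) (lv := [⟨1, 3, []⟩, ⟨9, 2, [[2, 1]]⟩, ⟨243, 2, []⟩]) (by decide +kernel)

/-- order 15 -/
theorem c17 : Nat.card (centralizer {ev x8 [7, 2, 5, 1, 6, 4]}) ≤ 15 :=
  cent_four (d := 7) (lv := [⟨4, 7, []⟩])
    (l := [165, 1520, 84]) (by decide +kernel)

/-- order 3 -/
theorem c18 : Nat.card (centralizer {ev x8 [1, 0]}) ≤ 174960 :=
  cent_four (d := 3) (lv := [⟨9, 3, []⟩, ⟨1, 1, []⟩, ⟨27, 1, []⟩, ⟨84, 1, []⟩, ⟨3, 1, []⟩])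
    (l := [163, 2001, 1758]) (by decide +kernel)

/-- order 10 -/
theorem c19 : Nat.card (centralizer {ev x8 [4, 2, 5, 3, 7]}) ≤ 20 :=
  cent_four (d := 6) (lv := [⟨30, 6, [[2, 2, 1, 2, 1, 1]]⟩, ⟨3, 1, []⟩])
    (l := [414]) (by decide +kernel)

/-- order 7 -/
theorem c20 : Nat.card (centralizer {ev x8 [2, 3, 5, 4, 0, 1]}) ≤ 14 :=
  cent_four (d := 7) (lv := [⟨1, 7, []⟩])
    (l := [414, 746, 1535, 217, 654, 2128]) (by decide +kernel)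

/-- order 8 -/
theorem c21 : Nat.card (centralizer {ev x8 [7, 1, 2, 3, 6]}) ≤ 16 :=
  cent_four (d := 6) (lv := [⟨4, 6, [[2, 1, 0, 0, 2, 1]]⟩, ⟨1, 1, []⟩])
    (l := [2136]) (by decide +kernel)

/-- order 12 -/
theorem c22 : Nat.card (centralizer {ev x8 [7, 2, 5, 3, 0, 6, 1]}) ≤ 48 :=
  cent_four (d := 6) (lv := [⟨1, 6, []⟩, ⟨3, 1, []⟩])
    (l := [730]) (by decide +kernel)

/-- order 6 -/
theorem c23 : Nat.card (centralizer {ev x8 [0, 6, 7, 1, 3, 2, 0, 6, 7, 1, 3, 2]}) ≤ 864 :=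
  cent_four (d := 3) (lv := [⟨3, 3, []⟩, ⟨1, 3, [[1, 2, 1]]⟩, ⟨27, 1, []⟩])
    (l := [493, 1471, 346]) (by decide +kernel)

/-- order 3 -/
theorem c24 : Nat.card (centralizer {ev x8 [0, 6, 7, 1, 3, 2, 0, 6, 7, 1, 3, 2, 0, 6, 7, 1, 3, 2, 0, 6, 7, 1, 3, 2]}) ≤ 629856 :=
  cent_four (d := 2) (lv := [⟨1, 2, [[2, 1]]⟩, ⟨3, 2, []⟩, ⟨9, 1, []⟩, ⟨108, 1, []⟩, ⟨27, 1, []⟩])
    (l := [1815, 1159, 1941, 722]) (by decide +kernel)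

/-- order 12 -/
theorem c25 : Nat.card (centralizer {ev x8 [3, 6, 0, 5, 4, 7]}) ≤ 24 :=
  cent_four (d := 6) (lv := [⟨37, 6, [[2, 0, 2, 1, 0, 1]]⟩, ⟨1, 1, []⟩])
    (l := [1330]) (by decide +kernel)

/-- order 6 -/
theorem c26 : Nat.card (centralizer {ev x8 [5, 3, 7, 2]}) ≤ 432 :=
  cent_four (d := 4) (lv := [⟨4, 4, []⟩, ⟨282, 2, [[1, 1]]⟩, ⟨9, 1, []⟩])
    (l := [783, 510]) (by decide +kernel)

/-- order 4 -/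
theorem c27 : Nat.card (centralizer {ev x8 [4, 7, 3, 5]}) ≤ 192 :=
  cent_four (d := 4) (lv := [⟨13, 4, [[2, 1, 2, 1]]⟩, ⟨48, 2, [[1, 1, 1, 1]]⟩, ⟨3, 1, []⟩])
    (l := [1827, 1971]) (by decide +kernel)

/-- order 13 -/
theorem c28 : Nat.card (centralizer {ev x8 [4, 2, 5, 6, 3, 0, 1, 7]}) ≤ 13 :=
  cent_four (d := 7) (lv := [⟨1, 7, []⟩])
    (l := [56]) (by decide +kernel)

/-- order 18 -/
theorem c29 : Nat.card (centralizer {ev x8 [7, 6, 2, 4, 3, 1, 2, 4, 6, 5, 2, 0, 1, 0, 2, 5, 3]}) ≤ 108 :=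
  cent_two (d := 6) (lv := [⟨3, 6, []⟩, ⟨1, 1, []⟩]) (by decide +kernel)

/-- order 9 -/
theorem c30 : Nat.card (centralizer {ev x8 [6, 4, 0, 1, 2, 3, 6, 7, 1, 2, 6, 4, 0, 1, 2, 3, 6, 7, 1, 2]}) ≤ 324 :=
  cent_four (d := 5) (lv := [⟨1, 5, []⟩, ⟨3, 1, []⟩, ⟨9, 1, []⟩])
    (l := [404, 1570]) (by decide +kernel)

/-- order 6 -/
theorem c31 : Nat.card (centralizer {ev x8 [1, 6, 7, 0, 2, 3, 4, 1, 6, 7, 0, 2, 3, 4, 1, 6, 7, 0, 2, 3, 4]}) ≤ 23328 :=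
  cent_four (d := 3) (lv := [⟨1, 3, [[2, 0, 1]]⟩, ⟨3, 2, []⟩, ⟨9, 1, []⟩, ⟨27, 1, []⟩])
    (l := [1441, 1191, 369]) (by decide +kernel)

/-- order 9 -/
theorem c32 : Nat.card (centralizer {ev x8 [5, 1, 2, 6, 4, 0, 3]}) ≤ 27 :=
  cent_two (d := 7) (lv := [⟨1, 7, []⟩]) (by decide +kernel)

/-- order 3 -/
theorem c33 : Nat.card (centralizer {ev x8 [5, 1, 2, 6, 4, 0, 3, 5, 1, 2, 6, 4, 0, 3, 5, 1, 2, 6, 4, 0, 3]}) ≤ 17496 :=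
  cent_two (d := 3) (lv := [⟨1, 3, []⟩, ⟨9, 2, []⟩, ⟨729, 2, []⟩]) (by decide +kernel)

/-- order 9 -/
theorem c34 : Nat.card (centralizer {ev x8 [2, 1, 3, 5, 4, 7, 6]}) ≤ 27 :=
  cent_two (d := 7) (lv := [⟨1, 7, []⟩]) (by decide +kernel)

/-- order 14 -/
theorem c35 : Nat.card (centralizer {ev x8 [5, 4, 1, 7, 0, 3, 2]}) ≤ 14 :=
  cent_four (d := 7) (lv := [⟨1, 7, []⟩])
    (l := [608, 356, 119, 1385, 2044, 186]) (by decide +kernel)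

/-- order 12 -/
theorem c36 : Nat.card (centralizer {ev x8 [0, 3, 4, 6, 1, 2]}) ≤ 36 :=
  cent_two (d := 7) (lv := [⟨1, 7, []⟩]) (by decide +kernel)

/-- order 6 -/
theorem c37 : Nat.card (centralizer {ev x8 [0, 3, 4, 6, 1, 2, 0, 3, 4, 6, 1, 2]}) ≤ 216 :=
  cent_two (d := 5) (lv := [⟨1, 5, []⟩, ⟨3, 2, []⟩]) (by decide +kernel)

/-- order 18 -/
theorem c38 : Nat.card (centralizer {ev x8 [6, 4, 0, 1, 2, 3, 6, 7, 1, 2]}) ≤ 36 :=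
  cent_four (d := 6) (lv := [⟨1, 6, []⟩, ⟨3, 1, []⟩])
    (l := [1937]) (by decide +kernel)

/-- order 6 -/
theorem c39 : Nat.card (centralizer {ev x8 [2, 7, 0, 1, 2, 6, 3, 0, 2, 7, 3, 1, 2, 5, 6]}) ≤ 2592 :=
  cent_four (d := 3) (lv := [⟨3, 3, [[2, 0, 1]]⟩, ⟨9, 3, []⟩, ⟨1, 1, []⟩])
    (l := [657, 1207, 267, 1077]) (by decide +kernel)

/-- order 18 -/
theorem c40 : Nat.card (centralizer {ev x8 [1, 6, 7, 0, 2, 3, 4]}) ≤ 54 :=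
  cent_four (d := 6) (lv := [⟨1, 6, []⟩, ⟨3, 1, []⟩])
    (l := [868]) (by decide +kernel)

/-- order 9 -/
theorem c41 : Nat.card (centralizer {ev x8 [6, 1, 0, 2, 6, 3, 2, 7]}) ≤ 162 :=
  cent_four (d := 5) (lv := [⟨1, 5, []⟩, ⟨9, 1, []⟩, ⟨3, 1, []⟩])
    (l := [1706]) (by decide +kernel)

/-- order 6 -/
theorem c42 : Nat.card (centralizer {ev x8 [2, 3, 7, 6, 4]}) ≤ 108 :=
  cent_two (d := 6) (lv := [⟨1, 6, []⟩, ⟨27, 1, []⟩]) (by decide +kernel)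

/-- order 6 -/
theorem c43 : Nat.card (centralizer {ev x8 [3, 4, 6]}) ≤ 3888 :=
  cent_four (d := 4) (lv := [⟨1, 4, []⟩, ⟨9, 1, []⟩, ⟨51, 1, [[2, 1]]⟩, ⟨81, 1, []⟩])
    (l := [1635, 737, 607]) (by decide +kernel)

/-- order 12 -/
theorem c44 : Nat.card (centralizer {ev x8 [7, 6, 5, 4, 1, 0, 3]}) ≤ 72 :=
  cent_four (d := 6) (lv := [⟨9, 6, []⟩, ⟨1, 1, []⟩])
    (l := [1165]) (by decide +kernel)

/-- order 6 -/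
theorem c45 : Nat.card (centralizer {ev x8 [6, 3, 7, 0, 5, 1]}) ≤ 864 :=
  cent_four (d := 4) (lv := [⟨9, 4, []⟩, ⟨1, 2, []⟩, ⟨3, 1, []⟩])
    (l := [84, 1514]) (by decide +kernel)

/-- order 3 -/
theorem c46 : Nat.card (centralizer {ev x8 [6, 1, 7, 0]}) ≤ 139968 :=
  cent_four (d := 3) (lv := [⟨9, 3, []⟩, ⟨84, 1, []⟩, ⟨3, 1, []⟩, ⟨729, 1, []⟩, ⟨1, 1, []⟩])
    (l := [976, 224, 1115, 467]) (by decide +kernel)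

/-- order 12 -/
theorem c47 : Nat.card (centralizer {ev x8 [1, 2, 5, 6, 4]}) ≤ 72 :=
  cent_four (d := 6) (lv := [⟨4, 6, []⟩, ⟨1, 1, []⟩])
    (l := [1494, 1460]) (by decide +kernel)

/-- order 6 -/
theorem c48 : Nat.card (centralizer {ev x8 [1, 4, 2, 0, 7, 5, 6]}) ≤ 54 :=
  cent_four (d := 6) (lv := [⟨4, 6, []⟩, ⟨1, 1, []⟩])
    (l := [542]) (by decide +kernel)

/-- order 3 -/
theorem c49 : Nat.card (centralizer {ev x8 [6, 0, 1, 5, 4, 7]}) ≤ 1458 :=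
  cent_four (d := 3) (lv := [⟨12, 3, [[1, 1, 1]]⟩, ⟨3, 3, []⟩, ⟨1, 1, []⟩])
    (l := [919, 1654, 950]) (by decide +kernel)

/-- order 6 -/
theorem c50 : Nat.card (centralizer {ev x8 [0, 4, 2, 1, 3]}) ≤ 108 :=
  cent_two (d := 6) (lv := [⟨1, 6, []⟩, ⟨3, 1, []⟩]) (by decide +kernel)

/-- order 12 -/
theorem c51 : Nat.card (centralizer {ev x8 [2, 3, 1, 0, 4, 1, 5, 6, 2, 7, 1, 3, 6]}) ≤ 144 :=
  cent_four (d := 5) (lv := [⟨3, 5, [[2, 0, 0, 1]]⟩, ⟨1, 2, []⟩])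
    (l := [1324, 666]) (by decide +kernel)

/-- order 6 -/
theorem c52 : Nat.card (centralizer {ev x8 [0, 6, 1, 7, 2]}) ≤ 1728 :=
  cent_four (d := 4) (lv := [⟨1, 4, [[2, 0, 0, 1]]⟩, ⟨27, 1, []⟩, ⟨3, 1, [[2, 1]]⟩, ⟨81, 1, []⟩])
    (l := [872, 1679]) (by decide +kernel)

/-- order 18 -/
theorem c53 : Nat.card (centralizer {ev x8 [7, 3, 1, 2, 6, 7, 4, 3, 2, 3, 1, 6, 2, 1, 6, 1, 0]}) ≤ 108 :=
  cent_two (d := 6) (lv := [⟨1, 6, []⟩, ⟨3, 1, []⟩]) (by decide +kernel)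

/-- order 12 -/
theorem c54 : Nat.card (centralizer {ev x8 [0, 6, 7, 1, 3, 2]}) ≤ 144 :=
  cent_four (d := 5) (lv := [⟨3, 5, []⟩, ⟨1, 1, [[1, 0, 2, 0, 1]]⟩, ⟨27, 1, []⟩])
    (l := [28]) (by decide +kernel)

/-- order 6 -/
theorem c55 : Nat.card (centralizer {ev x8 [1, 6, 2, 3]}) ≤ 432 :=
  cent_four (d := 4) (lv := [⟨9, 4, []⟩, ⟨4, 2, [[1, 0, 0, 1]]⟩, ⟨1, 1, []⟩])
    (l := [1843, 1514]) (by decide +kernel)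

/-- order 6 -/
theorem c56 : Nat.card (centralizer {ev x8 [0, 7, 1, 6, 4]}) ≤ 3888 :=
  cent_four (d := 4) (lv := [⟨10, 4, []⟩, ⟨1, 1, []⟩, ⟨33, 1, [[2, 1]]⟩, ⟨81, 1, []⟩])
    (l := [1655, 1485, 1971]) (by decide +kernel)

/-- order 6 -/
theorem c57 : Nat.card (centralizer {ev x8 [5, 0, 6, 2, 1, 7]}) ≤ 432 :=
  cent_four (d := 4) (lv := [⟨1, 4, []⟩, ⟨13, 2, [[1, 0, 0, 1]]⟩, ⟨81, 1, []⟩])
    (l := [1514, 548]) (by decide +kernel)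

end Cfsg.Agent.MK.C3L.O
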