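import Cfsg.Agent.MK.C3L.OFam
import Cfsg.Agent.TAB.F22.CovD
import Cfsg.Agent.TAB.Cov.Three

/-!
# A lattice of generalized characters of `3.Ω₇(3)`, data (helper94; generated by notes/MK/o7)
-/

set_option autoImplicit false
set_option maxRecDepth 100000

namespace Cfsg.Agent.MK.C3L.O

open Cfsg.Agent.TAB.Eng Cfsg.Agent.TAB.Cov

/-- the permutation characters -/
def seeds : List (List ℤ) :=
  [[1134, 378, 114, 54, 0, 54, 135, 0, 36, 0, 9, 48, 18, 6, 12, 9, 0, 0, 54, 0, 0, 27, 6, 0, 0, 18, 24, 12,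
  15, 0, 27, 6, 0, 0, 6, 0, 3, 0, 0, 0, 6, 18, 0, 3, 0, 9, 3, 0, 0, 0, 0, 12, 3, 6, 0, 6, 0, 0, 0, 3, 0, 0,
  3, 0, 0, 0, 0, 0, 6, 0, 0, 3, 3, 0, 0, 0, 0, 0, 0, 0, 0], [378, 126, 38, 18, 378, 54, 45, 45, 36, 0, 9, 16,
  6, 2, 4, 3, 126, 38, 18, 18, 18, 9, 2, 9, 2, 18, 8, 12, 5, 8, 9, 6, 5, 9, 6, 0, 3, 0, 0, 0, 2, 6, 6, 3, 0,
  3, 1, 16, 6, 2, 4, 4, 1, 2, 0, 6, 4, 1, 2, 1, 1, 0, 1, 0, 3, 0, 0, 0, 2, 0, 2, 3, 1, 0, 0, 2, 3, 1, 1, 0,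
  1]]

/-- the faithful part of the column of `8B` -/
def vU : List ℤ :=
  [0, 0, 0, 0, 0, 0, 0, 0, 0, 0, 0, 0, 0, 0, 0, 0, 0, 0, 0, 0, 0, 0, 0, 0, 0, 0, 0, 0, 0, 0, 0, 0, 0, 0, 0,
  0, 0, 0, 0, 0, 32, 0, 0, 0, 0, 0, 0, 0, 0, 0, 0, 0, 0, 0, 0, 0, 0, 0, 0, 0, 0, 0, 0, 0, 0, 0, 0, 0, 0, 0,
  0, 0, 0, 0, 0, -16, 0, 0, 0, 0, 0]

/-- the levels -/
def lvU : List Lev :=
  [⟨[756, 252, 76, 36, -378, 0, 90, -45, 0, 0, 0, 32, 12, 4, 8, 6, -126, -38, 36, -18, -18, 18, 4, -9, -2, 0,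
  16, 0, 10, -8, 18, 0, -5, -9, 0, 0, 0, 0, 0, 0, 4, 12, -6, 0, 0, 6, 2, -16, -6, -2, -4, 8, 2, 4, 0, 0, -4,
  -1, -2, 2, -1, 0, 2, 0, -3, 0, 0, 0, 4, 0, -2, 0, 2, 0, 0, -2, -3, -1, -1, 0, -1], [-1], 8, 3081356328960⟩,
  ⟨[-23814, -2142, 18, -54, 11907, 0, 0, 0, 0, 0, 0, -18, 42, 2, 6, 6, 1071, -9, -36, 18, 27, 0, -36, 0, 18,
  0, 0, 0, 0, 0, 0, 0, 0, 0, 0, 0, 0, 0, 0, 2, -2, 18, -9, 0, 0, -2, -2, 9, -21, -1, -3, 0, 0, -4, 0, 0, 0,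
  0, 2, 0, 0, 0, 2, 0, -3, 0, 0, 6, -6, -3, 3, 0, 2, 0, -1, 1, 1, 1, -1, 0, -1], [-1, 1], 14,
  10399577610240⟩, ⟨[-44226, 4662, -58, -18, 22113, 0, 0, 0, 0, 0, 0, 18, -18, -10, -6, -6, -2331, 29, -36,
  18, 9, 0, -4, 0, 2, 0, 32, 0, 32, -16, 0, 0, -16, 0, 0, 0, 0, 0, 0, -2, -6, 18, -9, 0, 0, 2, 2, -9, 9, 5,
  3, 0, 0, -4, 0, 0, 0, 0, 2, 0, 0, 0, 0, 0, 3, 0, 0, 6, 2, -3, -1, 0, -2, 0, 1, 3, -1, -1, 0, 0, 1], [1, -2,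
  2], 9, 5199788805120⟩, ⟨[-44226, -378, -426, -18, 22113, 0, 0, 0, 0, 0, 0, 2, 6, -2, 10, -6, 189, 213,
  -108, 54, 9, 72, -12, -36, 6, 0, 0, 0, -24, 0, 0, 0, 12, 0, 0, 0, 0, 0, 0, 2, -2, 18, -9, 0, 0, -6, 2, -1,
  -3, 1, -5, 8, -4, 4, 0, 0, -4, 2, -2, 4, -2, 0, 0, 0, 3, 0, 0, 6, -6, -3, 3, 0, 2, 0, -1, 1, 3, -1, 0, 0,
  -1], [1, -10, -1, 1], 21, 30043224207360⟩, ⟨[0, -2016, 288, 0, 0, 0, 0, 0, 0, 0, 0, 0, 48, -16, 0, 0, 1008,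
  -144, 252, -126, 0, 0, -36, 0, 18, 0, 0, 0, 0, 0, 0, 0, 0, 0, 0, 0, 0, 0, 0, 0, -8, 0, 0, 0, 0, 8, 4, 0,
  -24, 8, 0, 0, 0, -4, 0, 0, 0, 0, 2, 0, 0, 0, 0, 0, 0, 0, 0, 12, 0, -6, 0, 0, 0, 0, 0, 4, -4, -2, 0, 0, 0],
  [3, -1, -6, -3, 3], 12, 9574214307840⟩, ⟨[10584, 1008, -448, 72, -5292, 0, -360, 180, 0, 0, 0, 52, 24, 0,
  -4, -6, -504, 224, 144, -72, -36, 72, -16, -36, 8, 0, -16, 0, -16, 8, 0, 0, 8, 0, 0, 0, 0, 0, 0, 0, 4, -12,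
  6, 0, 0, 2, -2, -26, -12, 0, 2, -8, 4, 0, 0, 0, 4, -2, 0, -4, 2, 0, 2, 0, 3, 0, 0, 0, -4, 0, 2, 0, 2, 0, 0,
  -2, -1, 1, -1, 0, -1], [-91, -30, 97, 31, 59, -59], 377, 9500811998146560⟩, ⟨[-68040, 0, 432, 72, 34020, 0,
  0, 0, 0, 0, 0, -36, -24, 0, -12, 0, 0, -216, 0, 0, -36, 0, 0, 0, 0, 0, 0, 0, 0, 0, 0, 0, 0, 0, 0, 0, 0, 0,
  0, 0, 4, -18, 9, 0, 0, -8, 0, 18, 12, 0, 6, 0, 0, 0, 0, 0, 0, 0, 0, 0, 0, 0, 2, 0, 0, 0, 0, -18, 6, 9, -3,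
  0, 4, 0, 0, -2, 4, 0, -1, 0, -2], [17, 217, 142, 121, 67, -35, 35], 458, 14339421822136320⟩, ⟨[88452,
  -1260, -396, 36, -44226, 0, 0, 0, 0, 0, 0, 36, -12, 4, -12, 12, 630, 198, 36, -18, -18, 0, 36, 0, -18, 0,
  0, 0, 0, 0, 0, 0, 0, 0, 0, 0, 0, 0, 0, 4, -4, 18, -9, 0, 0, 4, 0, -18, 6, -2, 6, 0, 0, 4, 0, 0, 0, 0, -2,
  0, 0, 0, 0, 0, -6, 0, 0, -6, -6, 3, 3, 0, -4, 0, -2, 2, -2, 0, 0, 0, 2], [528, -127, 521, 278, 301, 35,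
  -341, 341], 1138, 69004553921372160⟩, ⟨[44226, -2142, -414, -126, -22113, 0, 0, 0, 0, 0, 0, 18, 66, 2, 18,
  6, 1071, 207, -36, 18, 63, 0, -36, 0, 18, 0, 0, 0, 0, 0, 0, 0, 0, 0, 0, 0, 0, 0, 0, 2, -6, -18, 9, 0, 0, 6,
  -2, -9, -33, -1, -9, 0, 0, -4, 0, 0, 0, 0, 2, 0, 0, 0, 0, 0, -3, 0, 0, 6, 6, -3, -3, 0, -2, 0, -1, 3, -3,
  1, 0, 0, 1], [1002, 1472, -137, 267, 942, 1123, -587, -767, 767], 2204, 213319877588213760⟩, ⟨[756, 252,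
  76, 36, -378, 0, 90, -45, 0, 0, 0, 64, 12, 4, -24, 6, -126, -38, 36, -18, -18, 18, 4, -9, -2, 0, 16, 0, 10,
  -8, 18, 0, -5, -9, 0, 0, 0, 0, 0, 0, -12, 12, -6, 0, 0, 6, 2, -32, -6, -2, 12, -8, 10, 4, 0, 0, 4, -5, -2,
  -6, 3, 0, 2, 0, -3, 0, 0, 0, 4, 0, -2, 0, -6, 0, 0, 6, -3, -1, -1, 0, 3], [28, -1692, -358, -1317, -335,
  1506, -1633, -199, -1159, 1159], 3518, 553044365035868160⟩, ⟨[44226, -2142, 226, -126, -22113, 0, 0, 0, 0,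
  0, 0, 18, -30, 2, 18, 6, 1071, -113, -36, 18, 63, 0, 28, 0, -14, 0, 16, 0, -32, -8, 0, 0, 16, 0, 0, 0, 0,
  0, 0, 2, 2, -18, 9, 0, 0, 6, -2, -9, 15, -1, -9, 0, 0, -4, 0, 0, 0, 0, 2, 0, 0, 0, 0, 0, -3, 0, 0, 6, -2,
  -3, 1, 0, -2, 0, -1, -1, -3, 1, 0, 0, 1], [170, -304, 412, 1438, 422, 372, 383, 1404, 528, -69, 69], 2857,
  418477572406333440⟩, ⟨[19656, -1008, -224, -72, -9828, 0, -90, 45, 0, 0, 0, -68, 0, -8, 4, 6, 504, 112,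
  180, -90, 36, -18, -44, 9, 22, 0, 16, 0, 22, -8, -18, 0, -11, 9, 0, 0, 0, 0, 0, 4, 0, -12, 6, 0, 0, 6, 2,
  34, 0, 4, -2, -8, -2, 4, 0, 0, 4, 1, -2, -2, 1, 0, 0, 0, -3, 0, 0, 0, 4, 0, -2, 0, 2, 0, -2, 0, -3, -1, 0,
  0, -1], [315, 1708, -2334, -2406, -2182, -35, -2573, 1233, -1725, 341, 810, -810], 5324,
  1440137029016125440⟩, ⟨[0, 0, 0, 0, 0, 0, 0, 0, 0, 0, 0, -80, 0, 0, -16, 0, 0, 0, 0, 0, 0, 0, 0, 0, 0, 0,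
  0, 0, 0, 0, 0, 0, 0, 0, 0, 0, 0, 0, 0, 8, 8, 0, 0, 0, 0, 0, 0, 40, 0, 0, 8, -8, -8, 0, 0, 0, 4, 4, 0, 8,
  -4, 0, 0, 0, 0, 0, 0, 0, 0, 0, 0, 0, 0, 0, -4, -4, 0, 0, 0, 0, 0], [-6236, -7, 836, -2570, -10434, -10002,
  5463, -6279, -7893, -3239, -1537, 9814, -9814], 19664, 18165635296883343360⟩, ⟨[19656, -2016, 368, -72,
  -9828, 0, -90, 45, 0, 0, 0, -12, -24, 16, -4, 6, 1008, -184, 36, -18, 36, -90, -28, 45, 14, 0, -16, 0, 14,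
  8, -18, 0, -7, 9, 0, 0, 0, 0, 0, 8, 12, -12, 6, 0, 0, -2, -6, 6, 12, -8, 2, 0, -6, 4, 0, 0, 0, 3, -2, 2,
  -1, 0, 0, 0, -3, 0, 0, 0, -4, 0, 2, 0, -2, 0, -4, -6, 1, 3, 0, 0, 1], [-10854, -7384, -4219, 4996, 5206,
  -4838, 6098, 6781, 9871, 15649, 9723, -14969, 5310, -5310], 33578, 52204030239365222400⟩, ⟨[23814, -882,
  -418, 54, -11907, 0, 0, 0, 0, 0, 0, 42, -18, 6, -14, -6, 441, 209, -288, 144, -27, 72, 32, -36, -16, 0,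
  -16, 0, 8, 8, 0, 0, -4, 0, 0, 0, 0, 0, 0, -6, -2, 36, -18, 0, 0, 2, -2, -21, 9, -3, 7, 0, 12, 0, 0, 0, 0,
  -6, 0, 4, -2, 0, -2, 0, 3, 0, 0, 0, -4, 0, 2, 0, 2, 0, 3, 1, -1, 1, 1, 0, -1], [2765, -1020, 1877, 1987,
  129, 1770, -186, 4381, -50, 3914, 1758, 820, -1288, -485, 485], 5651, 1550822567269248000⟩, ⟨[44982, 630,
  -394, 54, -22491, 0, 90, -45, 0, 0, 0, 30, 6, -26, -2, 12, -315, 197, 144, -72, -27, -54, -16, 27, 8, 0,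
  -16, 0, 2, 8, 18, 0, -1, -9, 0, 0, 0, 0, 0, 6, -10, -6, 3, 0, 0, -4, 0, -15, -3, 13, 1, 0, 6, 16, 0, 0, 0,
  -3, -8, -2, 1, 0, 2, 0, -6, 0, 0, -6, 2, 3, -1, 0, 0, 0, -3, 5, 2, 0, -1, 0, 0], [4232, -1645, 1635, -2686,
  5059, -3522, 390, -2577, 1867, -800, 3173, -2994, 5140, 2534, -3770, 3770], 9975, 4631336337858048000⟩,
  ⟨[82782, 3654, -266, -18, -41391, 0, -270, 135, 0, 0, 0, -30, 30, 22, -6, 12, -1827, 133, 36, -18, 9, 18,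
  4, -9, -2, 0, -32, 0, -14, 16, 18, 0, 7, -9, 0, 0, 0, 0, 0, -2, 2, 0, 0, 0, 0, 4, 4, 15, -15, -11, 3, 0,
  -6, 4, 0, 0, 0, 3, -2, -6, 3, 0, -2, 0, -6, 0, 0, 0, -8, 0, 4, 0, 0, 0, 1, -1, -2, -2, 1, 0, 0], [16535,
  27960, 21847, -3761, -4076, 29149, -4176, 20314, -8827, 52547, -4456, 29529, 16316, 44662, -2846, -7920,
  7920], 42190, 76826789355926937600⟩, ⟨[98280, 0, 48, -72, -49140, 0, 360, -180, 0, 0, 0, -36, 0, -24, -12,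
  0, 0, -24, 0, 0, 36, 0, -96, 0, 48, 0, 0, 0, 24, 0, 0, 0, -12, 0, 0, 0, 0, 0, 0, 4, 0, -24, 12, 0, 0, 8, 0,
  18, 0, 12, 6, 0, 0, 0, 0, 0, 0, 0, 0, 0, 0, 0, 0, 0, 0, 0, 0, 0, 0, 0, 0, 0, 4, 0, -2, 0, -4, 0, 0, 0, -2],
  [-8009, -9922, -14446, -8254, -1642, -5616, -10372, 5467, -9944, 1527, -18600, 96, -16084, -708, -15905,
  2022, 4092, -4092], 16547, 11046013373620592640⟩, ⟨[44226, 2898, -302, -126, -22113, 0, 0, 0, 0, 0, 0, 42,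
  -6, 10, 10, 6, -1449, 151, 36, -18, 63, -72, 4, 36, -2, 0, 16, 0, -8, -8, 0, 0, 4, 0, 0, 0, 0, 0, 0, -2,
  -2, -18, 9, 0, 0, -2, -2, -21, 3, -5, -5, 0, 12, 4, 0, 0, 0, -6, -2, 4, -2, 0, 0, 0, -3, 0, 0, 6, -2, -3,
  1, 0, 2, 0, 1, 1, 1, 1, 0, 0, -1], [164, -174, -461, -338, -206, 29, -10, -451, 223, -131, 348, -36, -92,
  -32, 173, -358, 0, -46, 46], 674, 17430572462284800⟩, ⟨[19656, -2016, 368, -72, -9828, 0, -90, 45, 0, 0, 0,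
  -12, -24, 16, -4, 6, 1008, -184, 36, -18, 36, -90, -28, 45, 14, 0, -16, 0, 14, 8, -18, 0, -7, 9, 0, 0, 0,
  0, 0, -8, -4, -12, 6, 0, 0, -2, -6, 6, 12, -8, 2, 0, -6, 4, 0, 0, 0, 3, -2, 2, -1, 0, 0, 0, -3, 0, 0, 0,
  -4, 0, 2, 0, -2, 0, 4, 2, 1, 3, 0, 0, 1], [-156, -1, -19, 159, -18, -271, 199, -20, 179, 23, 114, 38, 69,
  98, -17, 158, 177, 0, 49, 186], 470, 7461009132595200⟩, ⟨[-37800, 2520, -40, 216, 18900, 0, 360, -180, 0,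
  0, 0, 0, -24, 8, 0, 0, -1260, 20, -72, 36, -108, 0, -40, 0, 20, 0, 32, 0, -40, -16, 0, 0, 20, 0, 0, 0, 0,
  0, 0, 8, -8, -6, 3, 0, 0, 0, 0, 0, 12, -4, 0, 0, 0, 8, 0, 0, 0, 0, -4, 0, 0, 0, 4, 0, 0, 0, 0, -6, 2, 3,
  -1, 0, 0, 0, -4, 4, 0, 0, -2, 0, 0], [1416, -1074, -3136, 3886, 2981, 7022, 1796, -1981, 750, 2231, -4613,
  4957, 306, 5202, -1944, 7850, -2463, 6922, 0, -4434, 5142], 6924, 1832169851165122560⟩, ⟨[24570, 1386,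
  -118, 90, -12285, 0, -720, 360, 0, 0, 0, -30, -6, 10, -14, 0, -693, 59, 36, -18, -45, 72, -28, -36, 14, 0,
  -16, 0, -40, 8, 0, 0, 20, 0, 0, 0, 0, 0, 0, 2, 10, 12, -6, 0, 0, -8, -4, 15, 3, -5, 7, 0, 12, 4, 0, 0, 0,
  -6, -2, 4, -2, 0, 0, 0, 0, 0, 0, 0, -4, 0, 2, 0, 0, 0, -1, -5, 4, 2, 0, 0, 0], [-408, -12, -282, 667, -685,
  -590, -1352, -644, -350, -18, -572, 173, -304, 207, -1290, -426, -1196, -474, -571, 0, 678, -684], 1374,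
  73032767030845440⟩, ⟨[68040, 0, -432, -72, -34020, 0, 0, 0, 0, 0, 0, 36, 24, 0, 12, 0, 0, 216, 0, 0, 36, 0,
  0, 0, 0, 0, 0, 0, 0, 0, 0, 0, 0, 0, 0, 0, 0, 0, 0, 0, -4, 18, -9, 0, 0, 8, 0, -18, -12, 0, -6, 0, 0, 0, 0,
  0, 0, 0, 0, 0, 0, 0, -2, 0, 0, 0, 0, -18, -6, 9, 3, 0, -4, 0, 0, 2, -4, 0, 1, 0, 2], [22, 24, 44, 22, -69,
  43, 170, 112, 184, 210, -26, 196, 209, -204, -713, 38, -2, 184, 82, 85, 0, -2, 24], 644,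
  17328007315906560⟩, ⟨[49896, -504, -152, 72, -24948, 0, 270, -135, 0, 0, 0, 24, 0, 0, 8, 6, 252, 76, 144,
  -72, -36, 54, -80, -27, 40, 0, 16, 0, 22, -8, -18, 0, -11, 9, 0, 0, 0, 0, 0, 4, -4, 0, 0, 0, 0, -2, 6, -12,
  0, 0, -4, 0, -6, 0, 0, 0, 0, 3, 0, 2, -1, 0, 2, 0, -3, 0, 0, 12, -8, -6, 4, 0, -6, 0, -2, 2, 1, -3, -1, 0,
  3], [664, -196, -36, -392, -196, -1119, 995, 1375, 2114, 539, 663, -124, 1499, -395, 306, -2272, 1573,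
  -160, 539, -1264, 443, 0, -160, -36], 1956, 149602050739814400⟩, ⟨[21168, -1512, -376, 0, -10584, 0, 90,
  -45, 0, 0, 0, 12, -48, 8, 4, 18, 756, 188, 108, -54, 0, -54, -52, 27, 26, 0, -16, 0, 2, 8, 18, 0, -1, -9,
  0, 0, 0, 0, 0, 0, -4, 12, -6, 0, 0, -6, -2, -6, 24, -4, -2, 0, 6, -4, 0, 0, 0, -3, 2, -2, 1, 0, 4, 0, -9,
  0, 0, 0, -4, 0, 2, 0, 2, 0, 0, 2, 3, 1, -2, 0, -1], [-824, 664, -196, -36, -392, -196, 271, -395, -1405,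
  -666, 539, 663, -124, -1281, 995, 306, -882, -1207, -160, 539, 1516, -947, -2780, -160, -36], 2780,
  275647132344729600⟩, ⟨[40824, -1008, 192, 72, -20412, 0, 0, 0, 0, 0, 0, -52, -48, 24, 4, -6, 504, -96,
  -144, 72, -36, -72, 48, 36, -24, 0, 0, 0, 24, 0, 0, 0, -12, 0, 0, 0, 0, 0, 0, 4, -8, 0, 0, 0, 0, 2, 2, 26,
  24, -12, -2, 8, -4, 0, 0, 0, -4, 2, 0, 4, -2, 0, 4, 0, 3, 0, 0, 0, 0, 0, 0, 0, -2, 0, -2, 4, -1, -1, -2, 0,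
  1], [-756, -756, 1344, 450, -138, 900, 450, -613, 1339, 2573, 1952, -787, -1513, 726, 1847, 961, 2074,
  -678, 4233, 588, 4619, 2808, 2827, 756, -4818, 5268], 5406, 1091384167524618240⟩, ⟨[-74466, 1638, -298,
  -18, 37233, 0, 450, -225, 0, 0, 0, -78, 30, -10, 10, -6, -819, 149, 72, -36, 9, 90, 8, -45, -4, 0, -16, 0,
  -22, 8, 18, 0, 11, -9, 0, 0, 0, 0, 0, -2, 2, -12, 6, 0, 0, 2, -2, 39, -15, 5, -5, 0, 6, 8, 0, 0, 0, -3, -4,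
  -2, 1, 0, -2, 0, 3, 0, 0, 0, -4, 0, 2, 0, 2, 0, 1, -1, -1, 1, 1, 0, -1], [345, 135, 135, -240, 7, 112, 14,
  7, -371, 154, 21, 525, 621, -385, -217, 238, -390, 940, 1082, 1297, -105, 966, -152, 1286, -135, -450,
  457], 1223, 56527481854771200⟩, ⟨[122850, -126, -350, -126, -61425, 0, -198, 99, 0, 0, 0, -6, -6, 26, 10,
  0, 63, 175, -72, 36, 63, 90, -8, -45, 4, 0, 16, 0, -14, -8, 18, 0, 7, -9, 0, 0, 0, 0, 0, -2, 6, 6, -3, 0,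
  0, 0, 4, 3, 3, -13, -5, 0, 6, 8, 0, 0, 0, -3, -4, -2, 1, 0, 0, 0, 0, -18, 9, 6, -2, -3, 1, 0, 4, 0, 1, -3,
  0, -2, 0, 0, -2], [2, 0, 0, 0, 0, -2, 3, 1, -2, -4, 1, 4, 5, 4, 0, -3, 2, -5, 5, 3, 8, 0, 9, -3, 9, 0, -5,
  3], 5, 3714134860800⟩, ⟨[10530, -486, -150, 18, -5265, 0, 270, -135, 0, 0, 0, 6, -30, 10, 14, 0, 243, 75,
  -216, 108, -9, -90, -24, 45, 12, 0, 0, 0, 6, 0, -18, 0, -3, 9, 0, 0, 0, 0, -54, 2, -10, 0, 0, 0, 0, 0, 4,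
  -3, 15, -5, -7, 0, -6, -8, 0, 0, 0, 3, 4, 2, -1, 0, 0, 18, 0, 0, 0, -12, 0, 6, 0, 0, -4, 27, -1, 5, 0, -2,
  0, -9, 2], [0, 2, -2, -2, -2, -5, 3, -4, 1, 0, 3, -3, -2, -6, -2, 0, 0, -2, 2, -4, 4, -6, 3, -5, 0, -3, 2,
  7, -3], 7, 77996832076800⟩, ⟨[-43470, -1710, 690, 18, 21735, 0, -720, 360, 0, 0, 0, -30, 42, 10, -14, 0,
  855, -345, 180, -90, -9, 72, -12, -36, 6, 0, -48, 0, 24, 24, 0, 0, -12, 0, 0, 0, 0, 0, 0, -2, 14, -6, 3, 0,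
  0, 0, 0, 15, -21, -5, 7, 0, 12, 4, 0, 0, 0, -6, -2, 4, -2, 0, 2, -72, 0, 0, 0, -6, -6, 3, 3, 0, 0, 0, 1,
  -7, 0, 0, -1, 36, 0], [14, 0, -11, -24, 11, -24, -25, -9, 12, -3, 0, 26, -26, -29, -52, -34, 0, 0, -29, -1,
  -18, 33, -82, -9, -55, 5, -31, -11, 9, -21], 35, 2807885954764800⟩]

/-- the primes and the sections -/
def plU : List (ℕ × ℕ × List ℕ) :=
  [(2, 9, [0, 4, 5, 6, 7, 8, 9, 10, 15, 38, 41, 42, 43, 64, 73]), (3, 10, [0, 1, 2, 3, 11, 12, 13, 14, 15,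
  38, 39, 40, 45, 46, 62, 63, 72]), (5, 1, [0, 1, 2, 4, 6, 7, 11, 16, 17, 47]), (7, 1, [0, 1, 4, 16]), (13,
  1, [0, 4])]

/-- the certificates -/
def clU : List (ℕ × ℕ × List Cert) :=
  [(2, 9, [⟨0, [.one, .gen 0 1 0, .mul 0 0, .mul 1 0, .mul 2 0, .gen 0 1 1, .mul 4 0, .mul 5 0, .mul 2 2,
  .lin [(404, 8), (224, 7), (30, 6), (428, 5), (206, 4), (368, 3), (176, 2), (474, 1), (60, 0)], .lin [(478,
  9), (112, 8), (356, 7), (24, 6), (441, 5), (396, 4), (368, 3), (344, 2), (214, 1)], .lin [(404, 10), (72,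
  9), (243, 8), (308, 7), (419, 6), (204, 5), (200, 4), (57, 3)], .lin [(169, 11), (146, 10), (332, 9), (93,
  8), (414, 6), (466, 5), (57, 3)], .lin [(176, 12), (506, 11), (320, 10), (481, 9), (272, 7), (186, 6)],
  .lin [(114, 13), (289, 11), (34, 8)], .lin [(34, 14), (235, 13), (486, 9), (1, 8)], .lin [(147, 15), (244,
  14), (1, 10)], .lin [(6, 16), (107, 15)], .lin [(1, 17)]], [(0, 1), (1, 4), (2, 16), (3, 64), (4, 4), (5,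
  16), (6, 32), (7, 32), (8, 8), (9, 16)]⟩, ⟨4, [.one, .gen 1 1 0, .mul 0 0, .mul 1 0, .mul 2 0, .gen 1 1 1,
  .mul 4 0, .mul 5 0, .mul 2 2, .lin [(148, 8), (352, 7), (478, 6), (148, 5), (348, 4), (336, 3), (112, 2),
  (294, 1), (28, 0)], .lin [(206, 9), (432, 8), (504, 7), (360, 6), (463, 5), (100, 4), (272, 3), (212, 2),
  (214, 1)], .lin [(20, 10), (280, 9), (7, 8), (212, 7), (228, 5), (200, 4), (419, 3)], .lin [(159, 11),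
  (246, 10), (480, 9), (333, 8), (358, 6), (290, 5), (439, 3)], .lin [(208, 12), (222, 11), (400, 10), (57,
  9), (464, 7), (474, 6)], .lin [(82, 13), (384, 12), (323, 11), (454, 8)], .lin [(462, 14), (455, 13), (150,
  9), (171, 8)], .lin [(453, 15), (92, 14), (41, 10)], .lin [(262, 16), (449, 15)], .lin [(1, 17)]], [(0, 1),
  (1, 4), (2, 16), (3, 64), (4, 4), (5, 16), (6, 32), (7, 32), (8, 8), (9, 16)]⟩, ⟨5, [.one, .gen 0 1 0, .gen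
  1 1 0, .gen 0 3 0, .mul 2 0, .mul 2 1, .gen 0 1 1, .gen 1 1 1, .gen 0 3 1, .mul 6 0, .lin [(147, 9), (383,
  8), (208, 7), (298, 6), (305, 5), (81, 4), (27, 3), (140, 2), (88, 0)], .lin [(351, 10), (221, 8), (220,
  7), (98, 5), (73, 3), (439, 1)], .lin [(369, 11), (44, 9), (96, 8), (350, 6), (407, 4)], .lin [(404, 12),
  (14, 10), (18, 9), (171, 7)], .lin [(148, 13), (386, 12), (208, 11), (94, 10), (171, 9)], .lin [(256, 14),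
  (467, 12), (57, 11)], .lin [(2, 15), (237, 14)], .lin [(262, 16), (327, 14)], .lin [(1, 17)]], [(0, 1), (1,
  4), (2, 2), (3, 8), (4, 16), (5, 32), (6, 8), (7, 16), (8, 8)]⟩, ⟨6, [.one, .gen 0 1 0, .gen 0 3 0, .mul 1
  1, .mul 1 1, .mul 2 0, .lin [(244, 5), (104, 4), (396, 3), (500, 2), (416, 1), (205, 0)], .lin [(464, 6),
  (32, 5), (176, 4), (52, 3), (447, 2)], .lin [(219, 7), (506, 6), (120, 5), (239, 4)], .lin [(209, 8), (131,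
  7), (475, 6)], .lin [(389, 9), (365, 8)], .lin [(1, 10)]], [(0, 1), (1, 4), (2, 4), (3, 32), (4, 4), (5,
  16)]⟩, ⟨7, [.one, .gen 1 1 0, .gen 0 3 0, .mul 1 0, .mul 1 1, .gen 0 3 1, .lin [(351, 5), (12, 4), (244,
  3), (116, 2), (253, 1), (317, 0)], .lin [(508, 6), (8, 5), (312, 4), (440, 3), (383, 2)], .lin [(154, 7),
  (478, 6), (279, 5), (317, 4)], .lin [(465, 8), (137, 7), (475, 6)], .lin [(133, 9), (327, 8)], .lin [(1,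
  10)]], [(0, 1), (1, 4), (2, 4), (3, 16), (4, 4), (5, 8)]⟩, ⟨8, [.one, .gen 0 1 0, .gen 1 1 0, .mul 1 1,
  .gen 0 3 0, .mul 3 0, .mul 4 2, .gen 0 1 1, .gen 1 1 1, .lin [(16, 7), (160, 6), (328, 5), (200, 3), (60,
  2), (488, 1), (24, 0)], .lin [(184, 9), (384, 8), (308, 7), (184, 6), (118, 4), (353, 3), (209, 2), (19,
  1)], .lin [(12, 10), (128, 9), (21, 7), (426, 3)], .lin [(128, 11), (396, 10), (368, 9), (238, 8), (98, 6),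
  (197, 5)], .lin [(368, 12), (459, 11), (19, 10), (460, 9), (29, 7)], .lin [(144, 13), (277, 12), (479, 11),
  (242, 10)], .lin [(474, 14), (259, 13), (57, 7)], .lin [(4, 15), (199, 14)], .lin [(1, 16)]], [(0, 1), (1,
  2), (2, 4), (3, 32), (4, 8), (5, 32), (6, 4), (7, 16), (8, 32)]⟩, ⟨9, [], []⟩, ⟨10, [], []⟩, ⟨15, [.one,
  .gen 0 1 0, .gen 0 5 0, .mul 1 0, .lin [(342, 3), (474, 2), (249, 1), (143, 0)], .lin [(259, 4), (85, 3)],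
  .lin [(402, 5), (1, 3)], .lin [(1, 6)]], [(0, 1), (1, 4), (2, 2), (3, 4)]⟩, ⟨38, [.one, .gen 0 7 0, .lin
  [(6, 1), (107, 0)], .lin [(1, 2)]], [(0, 1), (1, 4)]⟩, ⟨41, [.one, .gen 0 1 0, .gen 0 3 0, .lin [(385, 1),
  (213, 0)], .lin [(2, 3), (199, 2)], .lin [(1, 4)]], [(0, 1), (1, 2), (2, 4)]⟩, ⟨42, [.one, .gen 1 1 0, .gen
  0 3 0, .lin [(131, 1), (213, 0)], .lin [(2, 3), (85, 2)], .lin [(1, 4)]], [(0, 1), (1, 2), (2, 4)]⟩, ⟨43,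
  [], []⟩, ⟨64, [.one, .gen 1 1 0, .gen 1 5 0, .mul 1 0, .lin [(214, 3), (14, 2), (171, 1), (327, 0)], .lin
  [(259, 4), (255, 3)], .lin [(146, 5), (131, 3)], .lin [(1, 6)]], [(0, 1), (1, 4), (2, 2), (3, 4)]⟩, ⟨73,
  [.one, .gen 1 7 0, .lin [(262, 1), (449, 0)], .lin [(1, 2)]], [(0, 1), (1, 4)]⟩]), (3, 10, [⟨0, [.gen 0 1
  0, .gen 1 1 0, .mul 1 0, .mul 1 1, .mul 2 1, .mul 3 1, .lin [(2187, 5), (13122, 4), (22356, 3), (56862, 2),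
  (48519, 1)], .lin [(10935, 6), (8748, 5), (11178, 4), (33048, 3), (15417, 2)], .lin [(18468, 7), (14337,
  6), (35028, 5), (3366, 4), (14488, 3), (40133, 2)], .lin [(52245, 8), (39366, 7), (44001, 6), (54287, 4)],
  .lin [(7776, 9), (26973, 8), (43353, 7), (57051, 6)], .lin [(22491, 10), (15174, 9), (53144, 8), (40402,
  7)], .lin [(36558, 11), (34992, 10), (5905, 9)], .lin [(16819, 12), (8592, 11)], .lin [(21089, 12)]], [(0,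
  27), (1, 81), (2, 2187), (3, 81), (4, 2187), (5, 729), (8, 27), (9, 2187), (10, 2187)]⟩, ⟨1, [.gen 0 1 0,
  .gen 1 1 0, .gen 0 2 0, .gen 1 2 0, .mul 3 3, .mul 4 3, .mul 5 3, .mul 4 3, .mul 4 4, .lin [(2187, 8),
  (19683, 5), (11340, 4), (52002, 3), (47547, 2)], .lin [(28962, 9), (11826, 8), (57969, 7), (55431, 6),
  (24602, 5), (56072, 4), (49807, 3), (8381, 2), (54732, 1)], .lin [(29565, 10), (19251, 9), (19278, 8),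
  (58572, 7), (43933, 6), (2355, 5), (4509, 4), (31447, 2)], .lin [(48114, 11), (26244, 10), (54675, 9),
  (47233, 7), (27672, 6)], .lin [(50985, 12), (49167, 11), (39366, 10), (3294, 9), (35389, 7), (27152, 6)],
  .lin [(29523, 12), (29525, 10)], .lin [(49563, 14), (32805, 13), (18603, 12), (41411, 9)], .lin [(56316,
  15), (13122, 14), (25697, 13)], .lin [(33586, 16), (17340, 15)], .lin [(21089, 16)]], [(0, 9), (1, 27), (2,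
  27), (3, 729), (4, 9), (5, 243), (6, 81), (8, 9), (9, 27), (10, 729)]⟩, ⟨2, [.one, .gen 0 1 0, .gen 1 1 0,
  .gen 0 2 0, .gen 1 2 0, .mul 3 2, .mul 4 2, .mul 5 2, .mul 5 5, .mul 6 5, .lin [(53788, 9), (36243, 8),
  (45458, 7), (57883, 6), (29943, 5), (38538, 4), (55304, 3), (20965, 2), (22252, 1), (26094, 0)], .lin
  [(38574, 10), (49986, 9), (52641, 8), (8650, 7), (33972, 6), (58518, 5), (46542, 4), (27639, 3), (5788,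
  1)], .lin [(42678, 11), (8619, 10), (3771, 9), (43302, 8), (49809, 7), (51729, 6), (15484, 5), (45499, 4)],
  .lin [(54171, 12), (10371, 11), (26820, 10), (31461, 9), (26685, 8), (56685, 7), (9737, 6)], .lin [(55905,
  13), (34341, 12), (16746, 11), (8299, 10), (50188, 9), (12354, 8)], .lin [(36090, 14), (18864, 12), (42373,
  10)], .lin [(42675, 15), (24599, 14), (37725, 13), (51668, 10)], .lin [(22973, 16), (47567, 14)], .lin [(3,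
  17), (19165, 16)], .lin [(1, 18)]], [(0, 1), (1, 3), (2, 9), (3, 27), (4, 9), (5, 9), (6, 27), (7, 27), (8,
  9), (9, 27)]⟩, ⟨3, [.gen 0 1 0, .gen 1 1 0, .gen 0 2 0, .gen 1 2 0, .lin [(38637, 3), (54675, 2), (41796,
  1), (45198, 0)], .lin [(49641, 4), (19614, 3), (28150, 2), (53741, 1)], .lin [(3921, 5), (45927, 4),
  (57196, 3)], .lin [(57955, 6), (3282, 5)], .lin [(29525, 6)]], [(0, 9), (1, 27), (2, 27), (3, 9), (4,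
  2187)]⟩, ⟨11, [.one, .gen 0 1 0, .gen 1 1 0, .gen 0 2 0, .gen 1 2 0, .gen 0 4 0, .lin [(57419, 5), (828,
  4), (15566, 3), (58635, 2), (9028, 1), (25834, 0)], .lin [(32805, 6), (50843, 5), (37740, 4), (45929, 3),
  (6555, 2)], .lin [(32809, 7), (32800, 5), (45929, 3)], .lin [(19687, 8), (54128, 6)], .lin [(3, 9), (13532,
  8)], .lin [(1, 10)]], [(0, 1), (1, 3), (2, 3), (3, 9), (4, 9), (5, 27)]⟩, ⟨12, [.gen 0 1 0, .gen 1 1 0,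
  .lin [(32805, 1)], .lin [(55768, 2), (9843, 1)], .lin [(29525, 2)]], [(0, 3), (1, 9), (3, 19683)]⟩, ⟨13,
  [.one, .gen 0 1 0, .gen 0 2 0, .mul 1 0, .lin [(19683, 2), (49209, 1), (47567, 0)], .lin [(15993, 3),
  (13532, 2)], .lin [(3, 5), (9841, 4)], .lin [(1, 6)]], [(0, 1), (1, 3), (2, 3), (3, 9)]⟩, ⟨14, [.one, .gen
  0 1 0, .gen 1 1 0, .mul 1 0, .lin [(39378, 3), (59045, 2), (19680, 1), (1, 0)], .lin [(19687, 4), (39365,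
  2)], .lin [(3, 5), (54128, 4)], .lin [(1, 6)]], [(0, 1), (1, 3), (2, 3), (3, 9)]⟩, ⟨15, [.one, .gen 0 1 0,
  .gen 1 1 0, .gen 0 5 0, .lin [(27, 3), (38079, 2), (19674, 1), (18808, 0)], .lin [(3, 4), (39365, 2)], .lin
  [(9, 5), (52487, 4)], .lin [(1, 6)]], [(0, 1), (1, 9), (2, 3), (3, 27)]⟩, ⟨38, [.one, .gen 0 7 0, .lin
  [(81, 1), (15361, 0)], .lin [(1, 2)]], [(0, 1), (1, 81)]⟩, ⟨39, [.one, .gen 0 2 0, .lin [(3, 1), (9841,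
  0)], .lin [(1, 2)]], [(0, 1), (1, 3)]⟩, ⟨40, [.one, .gen 0 1 0, .lin [(3, 1), (9841, 0)], .lin [(1, 2)]],
  [(0, 1), (1, 3)]⟩, ⟨45, [.one, .gen 0 5 0, .lin [(3, 1), (19165, 0)], .lin [(1, 2)]], [(0, 1), (1, 3)]⟩,
  ⟨46, [.one, .gen 0 1 0, .lin [(3, 1), (39365, 0)], .lin [(1, 2)]], [(0, 1), (1, 3)]⟩, ⟨62, [.one, .gen 0 1
  0, .lin [(3, 1), (39365, 0)], .lin [(1, 2)]], [(0, 1), (1, 3)]⟩, ⟨63, [.one, .gen 0 7 0, .lin [(27, 1),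
  (29212, 0)], .lin [(1, 2)]], [(0, 1), (1, 27)]⟩, ⟨72, [.one, .gen 0 1 0, .lin [(3, 1), (39365, 0)], .lin
  [(1, 2)]], [(0, 1), (1, 3)]⟩]), (5, 1, [⟨0, [.one], [(0, 1)]⟩, ⟨1, [.one], [(0, 1)]⟩, ⟨2, [.one], [(0,
  1)]⟩, ⟨4, [.one], [(0, 1)]⟩, ⟨6, [.one], [(0, 1)]⟩, ⟨7, [.one], [(0, 1)]⟩, ⟨11, [.one], [(0, 1)]⟩, ⟨16,
  [.one], [(0, 1)]⟩, ⟨17, [.one], [(0, 1)]⟩, ⟨47, [.one], [(0, 1)]⟩]), (7, 1, [⟨0, [.one], [(0, 1)]⟩, ⟨1,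
  [.one], [(0, 1)]⟩, ⟨4, [.one], [(0, 1)]⟩, ⟨16, [.one], [(0, 1)]⟩]), (13, 1, [⟨0, [.one], [(0, 1)]⟩, ⟨4,
  [.one], [(0, 1)]⟩])]

/-- the columns -/
noncomputable def tgU (t : ℕ) : List ℤ := lvU.map fun l => nth l.v t

theorem seeds_chk : ∀ t < 81, nth (seeds.getD 0 []) t = (val t).1 ∧ 3 * nth (seeds.getD 1 []) t = (val t).2 := by
  decide +kernel

theorem vU_chk : ∀ t < 81, nth vU t = (if t = 40 then 48 else 0) - if dat.pwf t 9 = 40 then 16 else 0 := by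
  decide +kernel

theorem lvU_chk : okLev dat lvU [vU] [vU] = true := by decide +kernel

theorem dfs_chk : ∀ r ∈ [2, 3, 4, -2, -3, -4],
    dfs (fun _ _ => false) (3200 * dat.N) 9 lvU [r] (100 * (16 - r ^ 2).toNat) = true := by decide +kernel

theorem plU_chk : okPrimes dat plU = true ∧ (plU.all fun x => x.2.2.all fun t => hasQ clU x.1 t) = true := by
  decide +kernel

theorem clU_chk : ∀ y ∈ clU, chkQ dat y.1 y.2.1 (y.1 ^ y.2.1) seeds y.2.2 tgU 30 = true := by decide +kernel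

end Cfsg.Agent.MK.C3L.O
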